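import Groth.Agent.Lib.Helper84.FlagSolvable

/-!
# Commutators act unipotently on a space with a stable full flag (helper84)
-/

set_option autoImplicit false

namespace Groth.Agent.Lib.Helper84.LieKolchin

open Groth.Agent.Lib.Helper84.FlagSolvable
open scoped commutatorElement

variable {K : Type*} [Field K] {M : Type*} [AddCommGroup M] [Module K M] {Γ : Type*} [Group Γ]

/-- the commutator subgroup acts trivially on the graded pieces of a stable full flag. -/
theorem sub_mem_of_mem_commutator (ρ : Γ →* Module.End K M) (n : ℕ)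
    (F : ℕ → Submodule K M) (hmono : Monotone F) (hn : F n = ⊤)
    (hstab : ∀ g i, ∀ v ∈ F i, ρ g v ∈ F i)
    (hone : ∀ i, i < n → ∃ w ∈ F (i + 1), w ∉ F i ∧ F (i + 1) ≤ F i ⊔ K ∙ w) :
    ∀ γ ∈ commutator Γ, ∀ i, ∀ v ∈ F (i + 1), ρ γ v - v ∈ F i := by
  let N : Subgroup Γ :=
    { carrier := {γ | ∀ i, ∀ v ∈ F (i + 1), ρ γ v - v ∈ F i}
      one_mem' := by intro i v _; simp
      mul_mem' := by
        intro a b ha hb i v hv
        have e : ρ (a * b) v - v = ρ a (ρ b v - v) + (ρ a v - v) := by
          rw [map_mul, Module.End.mul_apply, map_sub]; abel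
        rw [e]
        exact (F i).add_mem (hstab a i _ (hb i v hv)) (ha i v hv)
      inv_mem' := by
        intro a ha i v hv
        have e : ρ a⁻¹ v - v = -(ρ a⁻¹ (ρ a v - v)) := by
          rw [map_sub, ← Module.End.mul_apply, ← map_mul, inv_mul_cancel, map_one]
          simp
        rw [e]
        exact (F i).neg_mem (hstab a⁻¹ i _ (ha i v hv)) }
  have hle : commutator Γ ≤ N := by
    rw [commutator_def, Subgroup.commutator_le]
    intro g _ h _ i v hv
    by_cases hi : i < n
    · obtain ⟨w, hwY, hwX, hYw⟩ := hone i hi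
      have := actsBy_commutator (ρ := ρ) (X := F i) (Y := F (i + 1))
        (fun g => hstab g (i + 1)) (fun g => hstab g i) hwY hwX hYw g h v hv
      rwa [one_smul] at this
    · have : F i = ⊤ := top_le_iff.1 (hn ▸ hmono (not_lt.1 hi))
      rw [this]; trivial
  intro γ hγ
  exact hle hγ

/-- hence it acts unipotently. -/
theorem isNilpotent_sub_one_of_mem_commutator (ρ : Γ →* Module.End K M) (n : ℕ)
    (F : ℕ → Submodule K M) (hmono : Monotone F) (h0 : F 0 = ⊥) (hn : F n = ⊤)
    (hstab : ∀ g i, ∀ v ∈ F i, ρ g v ∈ F i)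
    (hone : ∀ i, i < n → ∃ w ∈ F (i + 1), w ∉ F i ∧ F (i + 1) ≤ F i ⊔ K ∙ w)
    (γ : Γ) (hγ : γ ∈ commutator Γ) : IsNilpotent (ρ γ - 1) := by
  have hstep := sub_mem_of_mem_commutator ρ n F hmono hn hstab hone γ hγ
  have key : ∀ j i, ∀ v ∈ F (i + j), ((ρ γ - 1) ^ j) v ∈ F i := by
    intro j
    induction j with
    | zero => intro i v hv; simpa using hv
    | succ j ih =>
      intro i v hv
      rw [pow_succ, Module.End.mul_apply]
      apply ih
      have : v ∈ F (i + j + 1) := by rwa [add_assoc]
      have := hstep (i + j) v this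
      rwa [LinearMap.sub_apply, Module.End.one_apply]
  refine ⟨n, ?_⟩
  apply LinearMap.ext
  intro v
  have hv : v ∈ F (0 + n) := by rw [zero_add, hn]; trivial
  have := key n 0 v hv
  rw [h0] at this
  rw [(Submodule.mem_bot K).1 this]
  rfl

end Groth.Agent.Lib.Helper84.LieKolchin
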